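import Cfsg.Agent.Lib.Chevalley.CharDiag
import Cfsg.Agent.Lib.ChevOrder.Chev
import Cfsg.Agent.Lib.Chevalley.AllEta

/-!
# The group meets the diagonal matrices of characters in `H`
-/

set_option autoImplicit false
set_option linter.unusedSectionVars false

namespace Cfsg.Agent.Lib.Chevalley.CharDiag

open Cfsg.Lie Matrix
open Cfsg.Agent.Lib.ChevBN.Elem Cfsg.Agent.Lib.ChevBN.Entries Cfsg.Agent.Lib.ChevBN.Table
open Cfsg.Agent.Lib.ChevBN.Collect Cfsg.Agent.Lib.ChevBN.Rel Cfsg.Agent.Lib.ChevBN.Torus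
open Cfsg.Agent.Lib.ChevBN.Monomial Cfsg.Agent.Lib.ChevBN.Core Cfsg.Agent.Lib.ChevBN.Pair
open Cfsg.Agent.Lib.BNPair.Basic Cfsg.Agent.Lib.BNPair.Parabolic

variable {D : ChevalleyDatum} {F : Type*} [Field F] {η : ℕ → ℕ → ℤ}

theorem inv_char {χ : ℕ → Fˣ} (hχ : D.IsRootCharacter χ) : D.IsRootCharacter (fun s => (χ s)⁻¹) := by
  refine ⟨fun r hr => ?_, fun r s k hr hs h => ?_⟩
  · simp only [hχ.1 r hr]
  · simp only [hχ.2 r s k hr hs h, mul_inv, mul_comm]

theorem charDiag_mul_inv (χ : ℕ → Fˣ) :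
    D.charDiag F χ * D.charDiag F (fun s => (χ s)⁻¹) = 1 := by
  simp only [ChevalleyDatum.charDiag, Matrix.diagonal_mul_diagonal]
  rw [← Matrix.diagonal_one]
  congr 1
  funext i
  rcases i with i | u
  · simp
  · simp

theorem inv_coe {χ : ℕ → Fˣ} {g : GL D.Idx F} (hg : (g : Matrix D.Idx D.Idx F) = D.charDiag F χ) :
    ((g⁻¹ : GL D.Idx F) : Matrix D.Idx D.Idx F) = D.charDiag F (fun s => (χ s)⁻¹) := by
  have h1 : (g : Matrix D.Idx D.Idx F) * D.charDiag F (fun s => (χ s)⁻¹) = 1 := by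
    rw [hg, charDiag_mul_inv]
  have h2 : (g : Matrix D.Idx D.Idx F)⁻¹ = D.charDiag F (fun s => (χ s)⁻¹) := Matrix.inv_eq_right_inv h1
  rw [← h2]
  exact (Matrix.coe_units_inv g)

variable (hR : Sys D F η) (hT : Tbl D) (hck : chainCk D = true)
include hR hT hck

theorem conj_X {χ : ℕ → Fˣ} (hχ : D.IsRootCharacter χ) {g : GL D.Idx F}
    (hg : (g : Matrix D.Idx D.Idx F) = D.charDiag F χ) {r : ℕ} (hr : r < D.nroots) (t : F) :
    g * X hR.toAddRel r t * g⁻¹ = X hR.toAddRel r ((χ r : F) * t) := by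
  apply Units.ext
  rw [Units.val_mul, Units.val_mul, coe_X, coe_X, hg, inv_coe hg]
  exact charDiag_conj hck hχ hr t

theorem conj_U {χ : ℕ → Fˣ} (hχ : D.IsRootCharacter χ) {g : GL D.Idx F}
    (hg : (g : Matrix D.Idx D.Idx F) = D.charDiag F χ) {u : GL D.Idx F} (hu : u ∈ D.posUnipotent F) :
    g * u * g⁻¹ ∈ D.posUnipotent F := by
  rw [posUnipotent_eq hR.toAddRel] at hu ⊢
  refine gen_induction hR.toAddRel (P := fun u => g * u * g⁻¹ ∈ gen hR.toAddRel {r | D.IsPosRoot r})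
    (by simp) ?_ ?_ hu
  · intro r hr t
    rw [conj_X hR hT hck hχ hg hr.1 t]
    exact X_mem_gen _ hr _
  · intro a b ha hb
    have e : g * (a * b) * g⁻¹ = (g * a * g⁻¹) * (g * b * g⁻¹) := by group
    rw [e]
    exact Subgroup.mul_mem _ ha hb

theorem conj_H {χ : ℕ → Fˣ} {g : GL D.Idx F}
    (hg : (g : Matrix D.Idx D.Idx F) = D.charDiag F χ) {h : GL D.Idx F} (hh : h ∈ D.diagonalSubgroup F) :
    g * h * g⁻¹ = h := by
  obtain ⟨κ, -, h1, -⟩ := exists_of_mem_H hR hT hh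
  have : g * h = h * g := by
    apply Units.ext
    rw [Units.val_mul, Units.val_mul, hg, h1, ChevalleyDatum.charDiag, dgMat,
      Matrix.diagonal_mul_diagonal, Matrix.diagonal_mul_diagonal]
    congr 1
    funext i
    exact mul_comm _ _
  rw [this]
  group

theorem conj_B {χ : ℕ → Fˣ} (hχ : D.IsRootCharacter χ) {g : GL D.Idx F}
    (hg : (g : Matrix D.Idx D.Idx F) = D.charDiag F χ) {b : GL D.Idx F} (hb : b ∈ D.borelSubgroup F) :
    g * b * g⁻¹ ∈ D.borelSubgroup F := by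
  obtain ⟨u, hu, h, hh, rfl⟩ := (mem_B_iff hR hT).mp hb
  have e : g * (u * h) * g⁻¹ = (g * u * g⁻¹) * (g * h * g⁻¹) := by group
  rw [e, conj_H hR hT hck hg hh]
  exact (mem_B_iff hR hT).mpr ⟨_, conj_U hR hT hck hχ hg hu, h, hh, rfl⟩

theorem mem_B {χ : ℕ → Fˣ} (hχ : D.IsRootCharacter χ) {g : GL D.Idx F} (hgG : g ∈ D.group F)
    (hg : (g : Matrix D.Idx D.Idx F) = D.charDiag F χ) : g ∈ D.borelSubgroup F := by
  let P := pair hR hT
  have h0 : P.parabolic ∅ = P.B := by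
    rw [Cfsg.BNPair.parabolic, Subgroup.closure_empty, sup_bot_eq]
  have h1 := normalizer_parabolic (P := P) (J := ∅) (Set.empty_subset _)
  have h2 : (⟨g, hgG⟩ : ↥(D.group F)) ∈ Subgroup.normalizer (P.parabolic ∅ : Set ↥(D.group F)) := by
    rw [Subgroup.mem_normalizer_iff, h0]
    intro x
    rw [Cfsg.Agent.Lib.ChevOrder.Chev.mem_PB hR hT, Cfsg.Agent.Lib.ChevOrder.Chev.mem_PB hR hT]
    constructor
    · intro hx
      exact conj_B hR hT hck hχ hg hx
    · intro hx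
      have h3 := conj_B hR hT hck (inv_char hχ) (inv_coe hg) hx
      have e : g⁻¹ * (g * (x : GL D.Idx F) * g⁻¹) * g⁻¹⁻¹ = x := by group
      simp only [Subgroup.coe_mul, Subgroup.coe_inv] at h3
      rwa [e] at h3
  rw [h1, h0] at h2
  exact (Cfsg.Agent.Lib.ChevOrder.Chev.mem_PB hR hT).mp h2

/-- S2158. -/
theorem mem_H {χ : ℕ → Fˣ} (hχ : D.IsRootCharacter χ) {g : GL D.Idx F} (hgG : g ∈ D.group F)
    (hg : (g : Matrix D.Idx D.Idx F) = D.charDiag F χ) : g ∈ D.diagonalSubgroup F := by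
  obtain ⟨u, hu, h, hh, e⟩ := (mem_B_iff hR hT).mp (mem_B hR hT hck hχ hgG hg)
  have hgm : g ∈ monoSub D F := by
    change IsMono _
    rw [hg]
    exact isMono_dg (fun s => (χ s : F))
  have hhm : h ∈ monoSub D F := by
    obtain ⟨κ, -, h1, -⟩ := exists_of_mem_H hR hT hh
    change IsMono _
    rw [h1]
    exact isMono_dg _
  have hum : u ∈ monoSub D F := by
    have : u = g * h⁻¹ := by rw [e]; group
    rw [this]
    exact Subgroup.mul_mem _ hgm (Subgroup.inv_mem _ hhm)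
  have h1 := unit_of_monoSub_inf hT hu hum
  rw [e, h1, one_mul]
  exact hh

end Cfsg.Agent.Lib.Chevalley.CharDiag
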