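import Cfsg.Agent.Lib.Chevalley.CharDiagCk

/-!
# Diagonal matrices of characters of the root lattice

`ĥ(χ) x_r(t) ĥ(χ)⁻¹ = x_r(χ(r) t)`.
-/

set_option autoImplicit false
set_option linter.unusedSectionVars false

namespace Cfsg.Agent.Lib.Chevalley.CharDiag

open Cfsg.Lie Matrix

variable {D : ChevalleyDatum} {F : Type*} [Field F]

theorem chi_zip {χ : ℕ → Fˣ} (hχ : D.IsRootCharacter χ) {r : ℕ} (hr : r < D.nroots) :
    ∀ (L : List (ℕ × ℤ)) (s c : ℕ), s < D.nroots → ckEntry D r s L = true →
      ∀ q ∈ L.zipIdx c, χ q.1.1 = χ s * χ r ^ (q.2 - c + 1) := by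
  intro L
  induction L with
  | nil =>
    intro s c _ _ q hq
    simp at hq
  | cons x L ih =>
    intro s c hs hck q hq
    simp only [ckEntry, Bool.and_eq_true, beq_iff_eq] at hck
    obtain ⟨⟨h1, h2⟩, h3⟩ := hck
    have hx : x.1 < D.nroots := Nat.le_of_ble_eq_true h2
    have h4 : χ x.1 = χ s * χ r := by
      rw [hχ.2 r s x.1 hr hs h1, mul_comm]
    rw [List.zipIdx_cons, List.mem_cons] at hq
    rcases hq with rfl | hq
    · simp [h4]
    · rw [ih x.1 (c + 1) hx h3 q hq, h4]
      have h5 : c + 1 ≤ q.2 := (List.mem_zipIdx hq).1
      have : q.2 - c + 1 = (q.2 - (c + 1) + 1) + 1 := by omega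
      rw [this, pow_succ]
      group

theorem chi_coeff (hck : chainCk D = true) {χ : ℕ → Fˣ} (hχ : D.IsRootCharacter χ) {r s u : ℕ}
    (hr : r < D.nroots) (hs : s < D.nroots) {km : ℕ × ℤ} (h : km ∈ D.chainCoeff r s u) :
    χ u = χ s * χ r ^ km.1 := by
  simp only [ChevalleyDatum.chainCoeff, List.mem_flatMap, List.mem_map, List.mem_filter,
    decide_eq_true_eq] at h
  obtain ⟨e, ⟨he, rfl⟩, q, ⟨hq, rfl⟩, rfl⟩ := h
  simp only [chainCk, List.all_eq_true, List.mem_range] at hck
  have h1 := hck r hr e he
  have := chi_zip hχ hr e.2.toList e.1 0 hs h1 q hq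
  simpa using this

theorem charDiag_conj (hck : chainCk D = true) {χ : ℕ → Fˣ} (hχ : D.IsRootCharacter χ) {r : ℕ}
    (hr : r < D.nroots) (t : F) :
    D.charDiag F χ * D.x F r t * D.charDiag F (fun s => (χ s)⁻¹) = D.x F r ((χ r : F) * t) := by
  have hne : ∀ s, (χ s : F) ≠ 0 := fun s => (χ s).ne_zero
  have hx : ∀ t' : F, D.x F r t' = D.xMat F ⟨r, hr⟩ t' := by
    intro t'
    simp [ChevalleyDatum.x, hr]
  rw [hx, hx, ChevalleyDatum.charDiag, ChevalleyDatum.charDiag]
  ext row col
  rw [Matrix.mul_diagonal, Matrix.diagonal_mul]
  simp only [ChevalleyDatum.xMat, Matrix.of_apply]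
  rcases col with i | s
  · rcases row with i' | u
    · simp
    · simp only [Sum.elim_inl, Sum.elim_inr, mul_one]
      by_cases hu : u = ⟨r, hr⟩
      · subst hu
        simp only [if_true]
        ring
      · simp [hu]
  · dsimp only
    by_cases h1 : s = ⟨r, hr⟩
    · subst h1
      rcases row with i' | u
      · simp
      · by_cases hu : u = ⟨r, hr⟩
        · subst hu
          simp [hne]
        · simp [hu]
    · rw [if_neg h1, if_neg h1]
      by_cases h2 : s.val = D.negIdx.getD r 0
      · have hneg : χ s.val = (χ r)⁻¹ := by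
          rw [h2]
          exact hχ.1 r hr
        have hneg' : (χ s.val : F)⁻¹ = (χ r : F) := by
          rw [hneg]
          simp
        rw [if_pos h2, if_pos h2]
        rcases row with i' | u
        · simp only [Sum.elim_inl, Sum.elim_inr, Units.val_inv_eq_inv_val, one_mul, hneg']
          ring
        · simp only [Sum.elim_inl, Sum.elim_inr, Units.val_inv_eq_inv_val, hneg']
          by_cases h3 : u = s
          · subst h3
            simp only [if_true, mul_one]
            rw [hneg]
            simp
          · rw [if_neg h3, if_neg h3]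
            by_cases h4 : u = ⟨r, hr⟩
            · subst h4
              simp only [if_true]
              ring
            · simp [h4]
      · rw [if_neg h2, if_neg h2]
        rcases row with i' | u
        · simp
        · simp only [Sum.elim_inl, Sum.elim_inr, Units.val_inv_eq_inv_val]
          have key : ∀ km ∈ D.chainCoeff r s.val u.val,
              (χ u.val : F) * (((km.2 : ℤ) : F) * t ^ km.1) * (χ s.val : F)⁻¹ =
                ((km.2 : ℤ) : F) * ((χ r : F) * t) ^ km.1 := by
            intro km hkm
            have h5 := chi_coeff hck hχ hr s.2 hkm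
            rw [h5]
            simp only [Units.val_mul, Units.val_pow_eq_pow_val]
            rw [mul_pow]
            field_simp [hne s.val]
          have h6 : (χ u.val : F) * ((D.chainCoeff r s.val u.val).map
                fun km => ((km.2 : ℤ) : F) * t ^ km.1).sum * (χ s.val : F)⁻¹ =
              ((D.chainCoeff r s.val u.val).map fun km => ((km.2 : ℤ) : F) * ((χ r : F) * t) ^ km.1).sum := by
            generalize D.chainCoeff r s.val u.val = L at key
            induction L with
            | nil => simp
            | cons a L ih =>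
              simp only [List.map_cons, List.sum_cons]
              rw [← ih (fun km hkm => key km (List.mem_cons_of_mem _ hkm)),
                ← key a List.mem_cons_self]
              ring
          rw [mul_add, add_mul, h6]
          congr 1
          by_cases h3 : u = s
          · subst h3
            simp [hne]
          · simp [h3]

end Cfsg.Agent.Lib.Chevalley.CharDiag
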