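import Cfsg.Agent.Lib.ChevBN.FastData
import Cfsg.Prelude.Def_ChevAutomorphisms

/-!
# The chain check
-/

set_option autoImplicit false
set_option linter.unusedSectionVars false

namespace Cfsg.Agent.Lib.Chevalley.CharDiag

open Cfsg.Lie Matrix

/-- Each chain entry is obtained from the previous one by adding the root. -/
def ckEntry (D : ChevalleyDatum) (r : ℕ) : ℕ → List (ℕ × ℤ) → Bool
  | _, [] => true
  | s, q :: L => (D.chainRoot r s 1 == some q.1) && Nat.blt q.1 D.nroots && ckEntry D r q.1 L

/-- The table check for the chains. -/
def chainCk (D : ChevalleyDatum) : Bool :=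
  (List.range D.nroots).all fun r =>
    (D.chain.getD r #[]).toList.all fun e => ckEntry D r e.1 e.2.toList

set_option maxRecDepth 1000000 in
theorem ck_G2 : chainCk chevG2 = true := by decide +kernel
set_option maxRecDepth 1000000 in
theorem ck_B2 : chainCk chevB2 = true := by decide +kernel
set_option maxRecDepth 1000000 in
theorem ck_D4 : chainCk chevD4 = true := by decide +kernel
set_option maxRecDepth 1000000 in
theorem ck_F4 : chainCk chevF4 = true := by decide +kernel
set_option maxRecDepth 1000000 in
theorem ck_E6 : chainCk chevE6 = true := by decide +kernel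
set_option maxRecDepth 1000000 in
theorem ck_E7 : chainCk chevE7 = true := by decide +kernel
set_option maxRecDepth 1000000 in
theorem ck_E8 : chainCk chevE8 = true := by decide +kernel

theorem ck_of_mem {D : ChevalleyDatum} (hD : D ∈ [chevG2, chevB2, chevD4, chevF4, chevE6, chevE7, chevE8]) :
    chainCk D = true := by
  simp only [List.mem_cons, List.not_mem_nil, or_false] at hD
  rcases hD with rfl | rfl | rfl | rfl | rfl | rfl | rfl
  · exact ck_G2
  · exact ck_B2
  · exact ck_D4
  · exact ck_F4
  · exact ck_E6
  · exact ck_E7
  · exact ck_E8

end Cfsg.Agent.Lib.Chevalley.CharDiag
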